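import Cfsg.Agent.H179.OT.SL

/-!
# S2539: root-table facts for `F₄` (helper179)

`F4.exists_fixed` : an involutive isometry `w` of the roots with `wa ≠ -a` fixes a root `g` with `⟨a, g^∨⟩ ≠ 0`.
-/

set_option autoImplicit false
set_option linter.unusedSectionVars false

namespace Cfsg.Agent.H179.OT.F4

open Cfsg Cfsg.Lie Cfsg.Lie.ChevalleyDatum
open Cfsg.Agent.ChevalleyStructure Cfsg.Agent.ChevalleyStructure.Elts Cfsg.Agent.ChevalleyStructure.RootVec
  Cfsg.Agent.ChevalleyStructure.RootVecTab
open Cfsg.Agent.H412.OT (pr)

/-- The pairing, for kernel evaluation. -/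
def prK (D : ChevalleyDatum) (r s : ℕ) : ℤ :=
  Nat.rec 0 (fun i ih => Int.add ih (Int.mul ((D.coroot.getD r #[]).getD i 0) ((D.cartanSR.getD i #[]).getD s 0))) D.rank

theorem prK_eq (D : ChevalleyDatum) (r s : ℕ) : prK D r s = pr D r s := by
  change prK D r s = ∑ i ∈ Finset.range D.rank, (D.coroot.getD r #[]).getD i 0 * D.cartan i s
  unfold prK
  induction D.rank with
  | zero => rfl
  | succ n ih => rw [Finset.sum_range_succ, ← ih]; rfl

/-- The table `16 ^ (48 r + s) (⟨s, r^∨⟩ + 4)`. -/
def T : ℕ :=
  0x655555455545444554544545343443433444343334333332565554555454544545454453534434343443434333433323556545554554454455445334455344334434433433343233666666655555555444444444444444444333333332222222554565545445545433443554433544554343344343323433545556544545455343434435354454545334343443233343455555644454555334344343545445455333434442333334666544465554443666555444444333222544433324443222664564456445534644553664422533442453344234423422646546454645354464535426264353424435342434243242466544654463554446355242646335244433524432443224644566445536445442533646242553644344253344223442464564645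354645424353462624535464342435342423424446546643554465244335224466355446324433542243244444566634445556222333444444555666233344452223444554443355444433655554554433433332554444335544433545434354544343565545435354343323545443435454343455433454453443556455343545334233544534434554334644444255535333664644646242442422555353336444442464442455353533646464462624424242553535334644424446424453553353466446224466244224535533534464244543454345435434543543655332543543454354345434543453453445344534534453563523534453453445344534534534445344535344453534536253453534445353445344453354443544353544435354352635435354443535443544435435435443544354354435325365354435435443544354354345434543453454345345233556345345434534543454345442464435335535422442664422644664353355354424644424446433535355242424426264464646335353554244464244444633353555224244242646446466333535552444446433455434435445332433545343554655344354454334554343454534344545323343453534545565343445453434545334445533444455233334334455455556334444553344455444322254443332666555444444333222655544436665444442342245334423644553664422533442564455346645644424324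243534243464535426264353424546453546465464244322443352443446355242646335244544635544665446422344234425334442533646242553644455364456445664242342434243534424353462624535464453546454645646224324432443354244335224466355446435544654465466222344423334445222333444444555666344455564445666433333244434333554544545343443433555454446555554343332344343433545454453534434343554545445655545334323343443343455445334455344334545544545565455222222233333333444444444444444444555555556666666332343334334434433443554433544554454455455545655323334333434344343434435354454545445454555455565233333433343444334344343545445455444545554555556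

def t (r s : ℕ) : ℕ := Nat.mod (Nat.shiftRight T (Nat.mul 4 (Nat.add (Nat.mul 48 r) s))) 16

theorem tab : allLT (fun r => allLT (fun s => decide (prK chevF4 r s = Int.sub (t r s) 4)) 48) 48 = true := by
  decide +kernel

theorem pr_eq_t {r s : ℕ} (hr : r < 48) (hs : s < 48) : pr chevF4 r s = (t r s : ℤ) - 4 := by
  have h := tab
  simp only [allLT_iff, decide_eq_true_eq] at h
  rw [← prK_eq, h r hr s hs]
  rfl

/-- Parity of the number of `i < n` with `f i`. -/
def par (f : ℕ → Bool) : ℕ → Bool
  | 0 => false
  | n + 1 => bif f n then !(par f n) else par f n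

theorem par_iff (f : ℕ → Bool) (n : ℕ) : par f n = true ↔ Odd ((Finset.range n).filter fun i => f i = true).card := by
  induction n with
  | zero => simp [par]
  | succ n ih =>
    rw [Finset.range_add_one, Finset.filter_insert, par]
    by_cases h : f n = true
    · rw [if_pos h, h, cond_true, Finset.card_insert_of_notMem (by simp), Nat.odd_add_one, ← ih]
      cases par f n <;> simp
    · rw [if_neg h, ← ih]
      rw [Bool.not_eq_true] at h
      rw [h, cond_false]

def isL (a : ℕ) : Bool := allLT (fun s => bif Nat.beq (t a s) 6 then Nat.beq s a else true) 48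

def sel (a b u v g : ℕ) : Bool :=
  bif Nat.beq (t a g) u then bif Nat.beq (t b g) u then bif Nat.beq (t g a) v then Nat.beq (t g b) v
    else false else false else false

def chk : Bool :=
  allLT (fun a => allLT (fun b => bif Nat.beq a b then true else bif Nat.beq (Nat.add a b) 47 then true else
    bif (isL a).xor (isL b) then true else bif par (sel a b 5 5) 48 then true else
      bif par (sel a b 5 6) 48 then true else par (sel a b 6 5) 48) 48) 48

theorem chk_true : chk = true := by decide +kernel

theorem n48 : chevF4.nroots = 48 := rfl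

theorem cond_iff {a b : Bool} : (bif a then b else false) = true ↔ a = true ∧ b = true := by
  cases a <;> cases b <;> simp

theorem sel_iff {a b g u v : ℕ} (ha : a < 48) (hb : b < 48) (hg : g < 48) :
    sel a b u v g = true ↔ (pr chevF4 a g = (u : ℤ) - 4 ∧ pr chevF4 b g = (u : ℤ) - 4) ∧
      (pr chevF4 g a = (v : ℤ) - 4 ∧ pr chevF4 g b = (v : ℤ) - 4) := by
  rw [pr_eq_t ha hg, pr_eq_t hb hg, pr_eq_t hg ha, pr_eq_t hg hb, sel, cond_iff, cond_iff, cond_iff, beq_iff, beq_iff,
    beq_iff, beq_iff]
  constructor
  · rintro ⟨h1, h2, h3, h4⟩
    exact ⟨⟨by omega, by omega⟩, by omega, by omega⟩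
  · rintro ⟨⟨h1, h2⟩, h3, h4⟩
    exact ⟨by omega, by omega, by omega, by omega⟩

theorem isL_iff {a : ℕ} (ha : a < 48) : isL a = true ↔ ∀ s < 48, pr chevF4 a s = 2 → s = a := by
  rw [isL, allLT_iff]
  refine forall₂_congr fun s hs => ?_
  rw [pr_eq_t ha hs]
  cases h : Nat.beq (t a s) 6
  · have h1 : t a s ≠ 6 := by
      intro e
      rw [← beq_iff, h] at e
      exact Bool.false_ne_true e
    simp only [cond_false, true_iff]
    intro h2
    omega
  · rw [beq_iff] at h
    rw [cond_true, beq_iff, h]
    norm_num

theorem isL_eq {a b : ℕ} {w : ℕ → ℕ} (hw : ∀ g < 48, w g < 48) (hw2 : ∀ g < 48, w (w g) = g)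
    (hpr : ∀ r < 48, ∀ s < 48, pr chevF4 (w r) (w s) = pr chevF4 r s) (ha : a < 48) (hb : b < 48)
    (hab : w a = b) (h : isL a = true) : isL b = true := by
  rw [isL_iff ha] at h
  rw [isL_iff hb]
  intro s hs h1
  have h2 : pr chevF4 a (w s) = 2 := by
    rw [← hpr a ha (w s) (hw s hs), hw2 s hs, hab, h1]
  rw [← hw2 s hs, h (w s) (hw s hs) h2, hab]

theorem exists_fixed_aux {a b u v : ℕ} {w : ℕ → ℕ} (hw : ∀ g < 48, w g < 48) (hw2 : ∀ g < 48, w (w g) = g)
    (hpr : ∀ r < 48, ∀ s < 48, pr chevF4 (w r) (w s) = pr chevF4 r s) (ha : a < 48) (hb : b < 48)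
    (hab : w a = b) (hv : v ≠ 4) (h : par (sel a b u v) 48 = true) :
    ∃ g < 48, w g = g ∧ pr chevF4 g a ≠ 0 := by
  rw [par_iff] at h
  have hba : w b = a := by rw [← hab, hw2 a ha]
  obtain ⟨g, hg, hg2⟩ := exists_fixed_of_odd h w (fun g hg => by
    obtain ⟨hg1, hg2⟩ := Finset.mem_filter.1 hg
    rw [Finset.mem_range] at hg1
    rw [sel_iff ha hb hg1] at hg2
    obtain ⟨⟨h1, h2⟩, h3, h4⟩ := hg2
    refine Finset.mem_filter.2 ⟨Finset.mem_range.2 (hw g hg1), ?_⟩
    rw [sel_iff ha hb (hw g hg1)]
    refine ⟨⟨?_, ?_⟩, ?_, ?_⟩
    · rw [← hba, hpr b hb g hg1, h2]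
    · rw [← hab, hpr a ha g hg1, h1]
    · rw [← hba, hpr g hg1 b hb, h4]
    · rw [← hab, hpr g hg1 a ha, h3]) (fun g hg => hw2 g (Finset.mem_range.1 (Finset.mem_filter.1 hg).1))
  obtain ⟨hg1, hg3⟩ := Finset.mem_filter.1 hg
  rw [Finset.mem_range] at hg1
  rw [sel_iff ha hb hg1] at hg3
  refine ⟨g, hg1, hg2, ?_⟩
  rw [hg3.2.1]
  omega

/-- **`F₄`** : an involutive isometry `w` of the roots with `wa ≠ -a` fixes a root `g` with `⟨a, g^∨⟩ ≠ 0`. -/
theorem exists_fixed {w : ℕ → ℕ} (hw : ∀ g < chevF4.nroots, w g < chevF4.nroots)
    (hw2 : ∀ g < chevF4.nroots, w (w g) = g)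
    (hpr : ∀ r < chevF4.nroots, ∀ s < chevF4.nroots, pr chevF4 (w r) (w s) = pr chevF4 r s) {a : ℕ}
    (ha : a < chevF4.nroots) (h1 : w a ≠ chevF4.neg a) :
    ∃ g < chevF4.nroots, w g = g ∧ pr chevF4 g a ≠ 0 := by
  have hin : InList chevF4 := by simp [InList]
  have hneg := RootVec.neg_eq (checked_of_mem hin) ha
  rw [n48] at *
  have hb := hw a ha
  by_cases h2 : w a = a
  · refine ⟨a, ha, h2, ?_⟩
    have : pr chevF4 a a = 2 := (StringMem.rootOK_of_mem hin ha).cartan_self
    rw [this]
    norm_num
  have hL : isL a = isL (w a) := by
    rw [Bool.eq_iff_iff]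
    exact ⟨isL_eq hw hw2 hpr ha hb rfl, isL_eq hw hw2 hpr hb ha (hw2 a ha)⟩
  have h := chk_true
  rw [chk, allLT_iff] at h
  have h3 := h a ha
  rw [allLT_iff] at h3
  have h4 := h3 (w a) hb
  have e1 : Nat.beq a (w a) = false := by
    rw [← Bool.not_eq_true, beq_iff]
    exact fun e => h2 e.symm
  have e2 : Nat.beq (Nat.add a (w a)) 47 = false := by
    rw [← Bool.not_eq_true, beq_iff]
    intro e
    have : a + w a = 47 := e
    apply h1
    rw [hneg]
    omega
  rw [e1, e2, hL, Bool.xor_self, cond_false, cond_false, cond_false] at h4
  cases h5 : par (sel a (w a) 5 5) 48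
  · cases h6 : par (sel a (w a) 5 6) 48
    · rw [h5, h6, cond_false, cond_false] at h4
      exact exists_fixed_aux hw hw2 hpr ha hb rfl (by norm_num) h4
    · exact exists_fixed_aux hw hw2 hpr ha hb rfl (by norm_num) h6
  · exact exists_fixed_aux hw hw2 hpr ha hb rfl (by norm_num) h5

end Cfsg.Agent.H179.OT.F4
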