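import Cfsg.Agent.H179.OT.Fix

/-!
# S2539, 3.1 as a pure root statement (helper179)

`minus_one` : `D = D₄, F₄, E₆, E₇, E₈`, `w` an involutive isometry of the roots, `Ψ` a `w`-invariant set of roots such that
every (long, if `D ≠ F₄`) root fixed by `w` is orthogonal to `Ψ`, and (simply laced) `⟨wa, a^∨⟩ ≠ 0` for `a ∈ Ψ`. Then
`w = -1` on `Ψ`.
-/

set_option autoImplicit false

namespace Cfsg.Agent.H179.OT

open Cfsg Cfsg.Lie Cfsg.Lie.ChevalleyDatum
open Cfsg.Agent.ChevalleyStructure Cfsg.Agent.ChevalleyStructure.Elts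
open Cfsg.Agent.H412.OT (pr IsLong)

theorem isLong {D : ChevalleyDatum} (hD : SLD D) {r : ℕ} (hr : r < D.nroots) : IsLong D r :=
  ⟨hr, fun _ hs h1 h2 => pr_abs_le hD hr hs h1 h2⟩

/-- One root. -/
theorem minus_one_root {D : ChevalleyDatum} (hD : D ∈ [chevD4, chevF4, chevE6, chevE7, chevE8]) {w : ℕ → ℕ}
    (hw : ∀ g < D.nroots, w g < D.nroots) (hw2 : ∀ g < D.nroots, w (w g) = g)
    (hpr : ∀ r < D.nroots, ∀ s < D.nroots, pr D (w r) (w s) = pr D r s) {a : ℕ} (ha : a < D.nroots)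
    (fix : ∀ g < D.nroots, IsLong D g ∨ D = chevF4 → w g = g → pr D g a = 0)
    (orth : SLD D → (∀ s < D.nroots, |pr D a s + pr D (w a) s| ≤ 2) → pr D a (w a) ≠ 0) : w a = D.neg a := by
  by_contra h1
  rcases fixed_or_orth hD hw hw2 hpr ha h1 with ⟨g, hg, hg1, hg2⟩ | ⟨hS, h2, h3⟩
  · refine hg2 (fix g hg ?_ hg1)
    by_cases hF : D = chevF4
    · exact Or.inr hF
    · left
      refine isLong ?_ hg
      simp only [List.mem_cons, List.not_mem_nil, or_false] at hD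
      simp only [SLD, List.mem_cons, List.not_mem_nil, or_false]
      tauto
  · exact orth hS h3 h2

/-- **3.1** -/
theorem minus_one {D : ChevalleyDatum} (hD : D ∈ [chevD4, chevF4, chevE6, chevE7, chevE8]) {w : ℕ → ℕ}
    (hw : ∀ g < D.nroots, w g < D.nroots) (hw2 : ∀ g < D.nroots, w (w g) = g)
    (hpr : ∀ r < D.nroots, ∀ s < D.nroots, pr D (w r) (w s) = pr D r s) {Ψ : Set ℕ}
    (hΨ : ∀ a ∈ Ψ, a < D.nroots) (fix : ∀ g < D.nroots, IsLong D g ∨ D = chevF4 → w g = g → ∀ a ∈ Ψ, pr D g a = 0)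
    (orth : SLD D → ∀ a ∈ Ψ, (∀ s < D.nroots, |pr D a s + pr D (w a) s| ≤ 2) → pr D a (w a) ≠ 0) :
    ∀ a ∈ Ψ, w a = D.neg a :=
  fun a ha => minus_one_root hD hw hw2 hpr (hΨ a ha) (fun g hg hl hf => fix g hg hl hf a ha)
    (fun hS hwin => orth hS a ha hwin)

/-- The window fact turns (orth) into a divisibility statement: `m ∣ ⟨x, a^∨⟩ + ⟨x, (wa)^∨⟩` for `x = a`, `m > 2`, excludes
`⟨wa, a^∨⟩ = 0`. -/
theorem orth_of_dvd {D : ChevalleyDatum} (hD : SLD D) {a b : ℕ} (ha : a < D.nroots) (hb : b < D.nroots) {m : ℤ} (hm : 2 < m)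
    (h : m ∣ pr D a a + pr D b a) : pr D a b ≠ 0 := by
  intro h0
  rw [pr_self hD ha, pr_comm hD hb ha, h0, add_zero] at h
  exact absurd (Int.le_of_dvd (by norm_num) h) (by omega)

end Cfsg.Agent.H179.OT
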